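import Mathlib
import Cfsg.Prelude

/-! S3164 farm (architect helper18), leaf C1. From `⁅R, zpowers t⁆ ≠ ⊥`, `⁅R, zpowers t⁆ ≤ A`, `t ∈ C(A)` an involution and
`C(A)` with cyclic Sylow 2-subgroups: there are `r` and an involution `a ∈ A`, `a ∉ C(A)`, with `r t r⁻¹ = a t`.
(Some generator `⁅r, s⁆` (`r ∈ R`, `s ∈ zpowers t`) is `≠ 1`; `s = t`; `a := r t r⁻¹ t⁻¹ ∈ A`, `a ≠ 1`; `a` commutes with `t`, and
`(a t)^2 = 1` gives `a^2 = 1`. If `a ∈ C(A)`: `a ≠ t` (else `r t r⁻¹ = 1`), so `⟨a, t⟩` is a four-group in `C(A)`, contained in a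
Sylow 2-subgroup, which is cyclic: contradiction.) `hRX`, `hR2`, `hRt` are not needed. -/

set_option autoImplicit false

namespace Cfsg.Agent.Lib.Helper18.SS64

namespace C1

/-- an elementary abelian subgroup containing two commuting involutions -/
theorem four_sub {H : Type*} [Group H] (B T : H) (hB : B ^ 2 = 1) (hT : T ^ 2 = 1)
    (hBT : B * T = T * B) :
    ∃ A : Subgroup H, (∀ a ∈ A, a ^ 2 = 1) ∧ B ∈ A ∧ T ∈ A := by
  have hk : ∀ x ∈ ({B, T} : Set H), ∀ y ∈ ({B, T} : Set H), x * y = y * x := by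
    intro x hx y hy
    rcases hx with rfl | rfl <;> rcases hy with rfl | rfl
    · rfl
    · exact hBT
    · exact hBT.symm
    · rfl
  have hcomm : ∀ x ∈ Subgroup.closure ({B, T} : Set H),
      ∀ y ∈ Subgroup.closure ({B, T} : Set H), x * y = y * x := by
    intro x hx y hy
    have h1 : Subgroup.closure ({B, T} : Set H) ≤ Subgroup.centralizer ({B, T} : Set H) := by
      rw [Subgroup.closure_le]
      intro z hz
      exact Subgroup.mem_centralizer_iff.mpr (fun w hw => hk w hw z hz)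
    have h2 : Subgroup.closure ({B, T} : Set H) ≤
        Subgroup.centralizer (Subgroup.closure ({B, T} : Set H) : Set H) := by
      rw [Subgroup.closure_le]
      intro z hz
      rw [SetLike.mem_coe, Subgroup.mem_centralizer_iff]
      intro w hw
      have := Subgroup.mem_centralizer_iff.mp (h1 hw) z hz
      exact this.symm
    exact (Subgroup.mem_centralizer_iff.mp (h2 hy) x hx)
  refine ⟨Subgroup.closure {B, T}, ?_,
    Subgroup.subset_closure (by simp), Subgroup.subset_closure (by simp)⟩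
  intro a ha
  induction ha using Subgroup.closure_induction with
  | mem x hx =>
    rcases hx with rfl | rfl
    · exact hB
    · exact hT
  | one => simp
  | mul x y hx hy ihx ihy =>
    have hc : Commute x y := hcomm x hx y hy
    rw [hc.mul_pow, ihx, ihy, one_mul]
  | inv x hx ih => rw [inv_pow, ih, inv_one]

/-- a group with cyclic Sylow 2-subgroups has no two distinct commuting involutions -/
theorem no_two_invol {K : Type*} [Group K] [Finite K]
    (hcyc : ∀ R : Sylow 2 K, IsCyclic ↥(R : Subgroup K)) (B T : K) (hB : B ^ 2 = 1) (hT : T ^ 2 = 1)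
    (hBT : B * T = T * B) (hB1 : B ≠ 1) (hT1 : T ≠ 1) (hne : B ≠ T) : False := by
  classical
  have hprime : Fact (Nat.Prime 2) := ⟨Nat.prime_two⟩
  obtain ⟨V, hVe, hBV, hTV⟩ := four_sub B T hB hT hBT
  have hVp : IsPGroup 2 ↥V := by
    intro v
    refine ⟨1, ?_⟩
    apply Subtype.ext
    have := hVe v v.2
    simpa using this
  obtain ⟨S, hVS⟩ := hVp.exists_le_sylow
  have hSc := hcyc S
  have := Fintype.ofFinite ↥(S : Subgroup K)
  have hle := IsCyclic.card_pow_eq_one_le (α := ↥(S : Subgroup K)) (n := 2) (by norm_num)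
  have h3 : 3 ≤ (Finset.univ.filter (fun a : ↥(S : Subgroup K) => a ^ 2 = 1)).card := by
    have hsub : ({1, ⟨B, hVS hBV⟩, ⟨T, hVS hTV⟩} : Finset ↥(S : Subgroup K)) ⊆
        Finset.univ.filter (fun a : ↥(S : Subgroup K) => a ^ 2 = 1) := by
      intro x hx
      rw [Finset.mem_filter]
      refine ⟨Finset.mem_univ _, ?_⟩
      rw [Finset.mem_insert, Finset.mem_insert, Finset.mem_singleton] at hx
      rcases hx with rfl | rfl | rfl
      · simp
      · exact Subtype.ext hB
      · exact Subtype.ext hT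
    have hcard : ({1, ⟨B, hVS hBV⟩, ⟨T, hVS hTV⟩} : Finset ↥(S : Subgroup K)).card = 3 := by
      rw [Finset.card_insert_of_notMem, Finset.card_insert_of_notMem, Finset.card_singleton]
      · rw [Finset.mem_singleton]
        intro h
        exact hne (congrArg Subtype.val h)
      · rw [Finset.mem_insert, Finset.mem_singleton]
        rintro (h | h)
        · exact hB1 (congrArg Subtype.val h).symm
        · exact hT1 (congrArg Subtype.val h).symm
    rw [← hcard]
    exact Finset.card_le_card hsub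
  omega

end C1

theorem exists_invol {G : Type*} [Group G] [Finite G] (A : Subgroup G)
    (hcyc : ∀ R : Sylow 2 ↥(Subgroup.centralizer (A : Set G)), IsCyclic ↥(R : Subgroup ↥(Subgroup.centralizer (A : Set G))))
    (t : G) (ht : orderOf t = 2) (htA : t ∈ Subgroup.centralizer (A : Set G))
    (R : Subgroup G) (hc1 : ⁅R, Subgroup.zpowers t⁆ ≠ ⊥) (hc2 : ⁅R, Subgroup.zpowers t⁆ ≤ A) :
    ∃ r a : G, a ∈ A ∧ orderOf a = 2 ∧ a ∉ Subgroup.centralizer (A : Set G) ∧ r * t * r⁻¹ = a * t := by
  have hprime : Fact (Nat.Prime 2) := ⟨Nat.prime_two⟩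
  have ht2 : t ^ 2 = 1 := by rw [← ht]; exact pow_orderOf_eq_one t
  have ht1 : t ≠ 1 := by
    intro h; rw [h, orderOf_one] at ht; omega
  -- a nontrivial generator
  have hex : ∃ r ∈ R, ∃ s ∈ Subgroup.zpowers t, r * s * r⁻¹ * s⁻¹ ≠ 1 := by
    by_contra hno
    push Not at hno
    apply hc1
    rw [eq_bot_iff, Subgroup.commutator_le]
    intro r hr s hs
    rw [Subgroup.mem_bot, commutatorElement_def]
    exact hno r hr s hs
  obtain ⟨r, hr, s, hs, hrs⟩ := hex
  -- `s = t`
  have hst : s = t := by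
    obtain ⟨i, rfl⟩ := Subgroup.mem_zpowers_iff.mp hs
    rcases Int.even_or_odd' i with ⟨j, rfl | rfl⟩
    · exfalso
      apply hrs
      rw [zpow_mul, zpow_ofNat, ht2, one_zpow]
      simp
    · rw [zpow_add, zpow_mul, zpow_ofNat, ht2, one_zpow, one_mul, zpow_one]
  subst hst
  have haA : r * s * r⁻¹ * s⁻¹ ∈ A := by
    apply hc2
    have := Subgroup.commutator_mem_commutator hr hs
    rwa [commutatorElement_def] at this
  have hat : Commute (r * s * r⁻¹ * s⁻¹) s := Subgroup.mem_centralizer_iff.mp htA _ haA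
  have hrt : r * s * r⁻¹ = (r * s * r⁻¹ * s⁻¹) * s := by group
  have ha2 : (r * s * r⁻¹ * s⁻¹) ^ 2 = 1 := by
    have h1 : (r * s * r⁻¹) ^ 2 = 1 := by rw [conj_pow, ht2]; simp
    rw [hrt, hat.mul_pow, ht2, mul_one] at h1
    exact h1
  refine ⟨r, r * s * r⁻¹ * s⁻¹, haA, orderOf_eq_prime ha2 hrs, ?_, hrt⟩
  intro haK
  have hne : r * s * r⁻¹ * s⁻¹ ≠ s := by
    intro h
    have h1 : r * s * r⁻¹ = s * s := by rw [hrt, h]
    rw [← pow_two, ht2] at h1
    apply ht1
    have h2 : s = r⁻¹ * (r * s * r⁻¹) * r := by group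
    rw [h2, h1]; group
  exact C1.no_two_invol hcyc (⟨r * s * r⁻¹ * s⁻¹, haK⟩ : ↥(Subgroup.centralizer (A : Set G)))
    ⟨s, htA⟩ (Subtype.ext ha2) (Subtype.ext ht2) (Subtype.ext hat.eq)
    (fun h => hrs (congrArg Subtype.val h)) (fun h => ht1 (congrArg Subtype.val h))
    (fun h => hne (congrArg Subtype.val h))

end Cfsg.Agent.Lib.Helper18.SS64
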