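import Mathlib
import Cfsg.Prelude
import Cfsg.Agent.Lib.Helper1.Cores
import Cfsg.Agent.Lib.Helper9.Layer
import Cfsg.Agent.Lib.Helper18.SS53.L3
import Cfsg.Agent.Lib.Helper18.SS53.L6
import Cfsg.Agent.Lib.Helper18.SS53.L7
import Cfsg.Agent.Lib.Helper18.SS53.L8

/-! S3164 farm (architect helper18), leaf C2: `[A, O(G)] = 1`. Same argument as `Lib/Helper18/SS53/Main.lean` (S3153), shorter:
`D := oddCore G` is normal of odd order (`Helper1.pPrimeCore_normal`, `pPrimeCore_coprime`). `K := C(A)` is tightly embedded and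
`N(A) = N(K)`, so `C(t) ≤ N(A)` (`SS53.centralizer_le_normalizer_of_tight`), and as in SS53/Main (`inf_odd_normal_central` with the
involution `a`, `centralizes_of_comm_central`) `D ⊓ C(t) ≤ C(A)`. Put `t' := r t r⁻¹ = a t`, an involution commuting with `t`.
`D ⊓ C(t) ≤ C(a) ⊓ C(t) ≤ C(t')`. `D ⊓ C(t')` is the conjugate by `r` of `D ⊓ C(t)`, so has the same cardinality, hence
`D ⊓ C(t) = D ⊓ C(t')` and `D ⊓ C(t') ≤ C(t)`. By `SS53.prod_centralizes`, `D ≤ C(t * t')` and `t * t' = a`. So the noncentral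
element `a` of `A` centralises `D`; `Ker := {y ∈ A | y centralises D}` is normal in `A` and not central, so `Ker = A`
(`Helper9.qs_normal_le_center_or_eq_top`). -/

set_option autoImplicit false

namespace Cfsg.Agent.Lib.Helper18.SS64

theorem comm_core_eq_bot {G : Type*} [Group G] [Finite G] (A : Subgroup G) (hA : Cfsg.IsStandardSubgroup A)
    (t : G) (ht : orderOf t = 2) (htA : t ∈ Subgroup.centralizer (A : Set G))
    (r a : G) (haA : a ∈ A) (ha : orderOf a = 2) (hnc : a ∉ Subgroup.centralizer (A : Set G))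
    (hr : r * t * r⁻¹ = a * t) : ⁅A, Cfsg.oddCore G⁆ = ⊥ := by
  obtain ⟨hq, htight, -, hNN⟩ := hA
  have hDn : (Cfsg.oddCore G).Normal := Cfsg.Agent.Lib.Helper1.pPrimeCore_normal 2
  have hDodd : Odd (Nat.card ↥(Cfsg.oddCore G)) := by
    have h := Cfsg.Agent.Lib.Helper1.pPrimeCore_coprime (G := G) 2
    exact Nat.Coprime.odd_of_right h
  have htt : t * t = 1 := by
    have := pow_orderOf_eq_one t
    rw [ht, pow_two] at this
    exact this
  have hta : a * t = t * a := Subgroup.mem_centralizer_iff.mp htA a haA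
  -- C_D(t) ≤ C(A)
  have hCt : Cfsg.oddCore G ⊓ Subgroup.centralizer {t} ≤ Subgroup.centralizer (A : Set G) := by
    intro d hd
    have hdD : d ∈ Cfsg.oddCore G := hd.1
    have hdN : d ∈ Subgroup.normalizer (A : Set G) := by
      rw [hNN]
      exact SS53.centralizer_le_normalizer_of_tight _ htight t ht htA hd.2
    refine SS53.centralizes_of_comm_central A hq d hdN ?_
    intro y hy z hz
    have h1 : d * y * d⁻¹ * y⁻¹ ∈ A := by
      have := (Subgroup.mem_normalizer_iff.mp hdN y).mp hy
      exact A.mul_mem this (A.inv_mem hy)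
    have h2 : d * y * d⁻¹ * y⁻¹ ∈ Cfsg.oddCore G := by
      have := hDn.conj_mem d⁻¹ ((Cfsg.oddCore G).inv_mem hdD) y
      have e : d * y * d⁻¹ * y⁻¹ = d * (y * d⁻¹ * y⁻¹) := by group
      rw [e]
      exact (Cfsg.oddCore G).mul_mem hdD this
    exact SS53.inf_odd_normal_central A hq a haA ha (Cfsg.oddCore G) hDodd _ ⟨h1, h2⟩ z hz
  -- t' = r t r⁻¹ = a t
  have ht' : orderOf (a * t) = 2 := by
    rw [← hr]
    have : r * t * r⁻¹ = MulAut.conj r t := by simp [MulAut.conj_apply]
    rw [this, MulEquiv.orderOf_eq]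
    exact ht
  have hcomm : t * (a * t) = (a * t) * t := by
    rw [← mul_assoc, ← hta]
  -- C_D(t) ≤ C(t')
  have h1 : Cfsg.oddCore G ⊓ Subgroup.centralizer {t} ≤ Subgroup.centralizer {a * t} := by
    intro d hd
    have hdK := hCt hd
    have hda : a * d = d * a := Subgroup.mem_centralizer_iff.mp hdK a haA
    have hdt : t * d = d * t := Subgroup.mem_centralizer_iff.mp hd.2 t (Set.mem_singleton t)
    rw [Subgroup.mem_centralizer_iff]
    intro x hx
    rw [Set.mem_singleton_iff] at hx
    subst hx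
    rw [mul_assoc, hdt, ← mul_assoc, hda, mul_assoc]
  -- cardinalities
  have hle : Cfsg.oddCore G ⊓ Subgroup.centralizer {t} ≤
      Cfsg.oddCore G ⊓ Subgroup.centralizer {a * t} := le_inf inf_le_left h1
  have hcard : Nat.card ↥(Cfsg.oddCore G ⊓ Subgroup.centralizer {a * t}) ≤
      Nat.card ↥(Cfsg.oddCore G ⊓ Subgroup.centralizer {t}) := by
    have hmem : ∀ d ∈ Cfsg.oddCore G ⊓ Subgroup.centralizer {a * t},
        r⁻¹ * d * r ∈ Cfsg.oddCore G ⊓ Subgroup.centralizer {t} := by
      intro d hd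
      refine Subgroup.mem_inf.mpr ⟨?_, ?_⟩
      · have := hDn.conj_mem d hd.1 r⁻¹
        simpa using this
      · have hdt' : (a * t) * d = d * (a * t) :=
          Subgroup.mem_centralizer_iff.mp hd.2 (a * t) (Set.mem_singleton _)
        rw [Subgroup.mem_centralizer_iff]
        intro x hx
        rw [Set.mem_singleton_iff] at hx
        subst hx
        have e1 : x * (r⁻¹ * d * r) = r⁻¹ * ((r * x * r⁻¹) * d) * r := by group
        have e2 : r⁻¹ * d * r * x = r⁻¹ * (d * (r * x * r⁻¹)) * r := by group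
        rw [e1, e2, hr, hdt']
    apply Nat.card_le_card_of_injective
      (fun d : ↥(Cfsg.oddCore G ⊓ Subgroup.centralizer {a * t}) =>
        (⟨r⁻¹ * d.1 * r, hmem d.1 d.2⟩ : ↥(Cfsg.oddCore G ⊓ Subgroup.centralizer {t})))
    intro d d' h
    have h' : r⁻¹ * d.1 * r = r⁻¹ * d'.1 * r := congrArg Subtype.val h
    apply Subtype.ext
    have := mul_right_cancel h'
    exact mul_left_cancel this
  have heq : Cfsg.oddCore G ⊓ Subgroup.centralizer {t} =
      Cfsg.oddCore G ⊓ Subgroup.centralizer {a * t} := Subgroup.eq_of_le_of_card_ge hle hcard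
  have h2 : Cfsg.oddCore G ⊓ Subgroup.centralizer {a * t} ≤ Subgroup.centralizer {t} := by
    rw [← heq]; exact inf_le_right
  have h5 := SS53.prod_centralizes (Cfsg.oddCore G) hDodd t (a * t) ht ht' hcomm h1 h2
  have e : t * (a * t) = a := by rw [← mul_assoc, ← hta, mul_assoc, htt, mul_one]
  rw [e] at h5
  -- `a` centralises `D`
  have haD : a ∈ Subgroup.centralizer ((Cfsg.oddCore G : Subgroup G) : Set G) := by
    rw [Subgroup.mem_centralizer_iff]
    intro d hd
    have := Subgroup.mem_centralizer_iff.mp (h5 hd) a (Set.mem_singleton a)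
    exact this.symm
  -- the kernel of the action of `A` on `D`
  have hCn : (Subgroup.centralizer ((Cfsg.oddCore G : Subgroup G) : Set G)).Normal :=
    Subgroup.normal_centralizer
  rcases Cfsg.Agent.Lib.Helper9.qs_normal_le_center_or_eq_top hq
    ((Subgroup.centralizer ((Cfsg.oddCore G : Subgroup G) : Set G)).subgroupOf A) with h | h
  · exfalso
    apply hnc
    have haN : (⟨a, haA⟩ : ↥A) ∈
        (Subgroup.centralizer ((Cfsg.oddCore G : Subgroup G) : Set G)).subgroupOf A :=
      Subgroup.mem_subgroupOf.mpr haD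
    have haZ := h haN
    rw [Subgroup.mem_centralizer_iff]
    intro y hy
    have h3 := Subgroup.mem_center_iff.mp haZ ⟨y, hy⟩
    exact congrArg Subtype.val h3
  · rw [Subgroup.commutator_eq_bot_iff_le_centralizer]
    intro y hy
    have h3 : (⟨y, hy⟩ : ↥A) ∈
        (Subgroup.centralizer ((Cfsg.oddCore G : Subgroup G) : Set G)).subgroupOf A := by
      rw [h]; exact Subgroup.mem_top _
    exact Subgroup.mem_subgroupOf.mp h3

end Cfsg.Agent.Lib.Helper18.SS64
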