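import Mathlib
import Cfsg.Prelude
import Cfsg.Agent.S1301
import Cfsg.Agent.Lib.Helper9.PComp3
import Cfsg.Agent.Lib.Helper18.SS53.L6

/-! S3164 farm (architect helper18), leaf C3a: `A ≤ L_{2'}(G)` by L-balance.
`A` is quasisimple of even order (it contains the involution `a`), `t` is an involution centralising `A` and `C_G(t) ≤ N_G(A)`.
With `C := centralizer ((zpowers t : Subgroup G) : Set G)` (`= centralizer {t}`), `A.subgroupOf C` is normal in `↥C` and quasisimple,
so a component of `↥C`; its image in `↥C ⧸ O(↥C)` is normal and quasisimple (`A_C ⊓ O(C)` is central in `A_C`, cf.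
`SS53.inf_odd_normal_central`, and `Helper9.qs_quotient_of_le_center`), so `A.subgroupOf C` is a 2-component of `↥C`
(`Helper9.comp_isPComponent`), hence `≤ pLayer 2 ↥C`, and `Cfsg.Agent.S1301.result (zpowers t)` (L-balance) gives `A ≤ pLayer 2 G`. -/

set_option autoImplicit false

namespace Cfsg.Agent.Lib.Helper18.SS64

theorem le_pLayer {G : Type*} [Group G] [Finite G] (A : Subgroup G) (hq : Cfsg.IsQuasisimple ↥A)
    (t : G) (ht : orderOf t = 2) (htA : t ∈ Subgroup.centralizer (A : Set G))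
    (hCN : Subgroup.centralizer ({t} : Set G) ≤ Subgroup.normalizer (A : Set G))
    (a : G) (haA : a ∈ A) (ha : orderOf a = 2) : A ≤ Cfsg.pLayer 2 G := by
  -- the 2-group T = ⟨t⟩
  have hT : IsPGroup 2 ↥(Subgroup.zpowers t) := by
    apply IsPGroup.of_card (n := 1)
    rw [Nat.card_zpowers, ht, pow_one]
  have hbal := Cfsg.Agent.S1301.result (Subgroup.zpowers t) hT
  set C : Subgroup G := Subgroup.centralizer ((Subgroup.zpowers t : Subgroup G) : Set G) with hC
  have hAC : A ≤ C := by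
    rw [hC, Subgroup.le_centralizer_iff]
    exact Subgroup.zpowers_le.mpr htA
  have hCt : C ≤ Subgroup.centralizer ({t} : Set G) := by
    apply Subgroup.centralizer_le
    intro x hx
    rw [Set.mem_singleton_iff] at hx
    subst hx
    exact Subgroup.mem_zpowers x
  have hCN' : C ≤ Subgroup.normalizer (A : Set G) := hCt.trans hCN
  -- A_C normal in C
  have hn : (A.subgroupOf C).Normal := by
    refine ⟨fun x hx c => ?_⟩
    rw [Subgroup.mem_subgroupOf] at hx ⊢
    have hc := hCN' c.2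
    rw [Subgroup.mem_normalizer_iff] at hc
    exact (hc _).mp hx
  have hqC : Cfsg.IsQuasisimple ↥(A.subgroupOf C) :=
    Cfsg.Agent.Lib.Helper9.qs_of_mulEquiv (Subgroup.subgroupOfEquivOfLe hAC).symm hq
  have hJ : Cfsg.IsComponent (A.subgroupOf C) := ⟨hn.isSubnormal, hqC⟩
  have hOn : (Cfsg.pPrimeCore 2 ↥C).Normal := Cfsg.Agent.Lib.Helper1.pPrimeCore_normal 2
  have hJb : Cfsg.IsComponent ((A.subgroupOf C).map (QuotientGroup.mk' (Cfsg.pPrimeCore 2 ↥C))) := by
    rcases Cfsg.Agent.Lib.Helper9.comp_map_of_surjective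
        (QuotientGroup.mk'_surjective (Cfsg.pPrimeCore 2 ↥C)) hJ with h | h
    · exfalso
      have ha' : (⟨a, hAC haA⟩ : ↥C) ∈ A.subgroupOf C := by
        rw [Subgroup.mem_subgroupOf]; exact haA
      have h1 : (QuotientGroup.mk' (Cfsg.pPrimeCore 2 ↥C)) (⟨a, hAC haA⟩ : ↥C) ∈
          (A.subgroupOf C).map (QuotientGroup.mk' (Cfsg.pPrimeCore 2 ↥C)) :=
        Subgroup.mem_map_of_mem _ ha'
      rw [h, Subgroup.mem_bot] at h1
      have haO : (⟨a, hAC haA⟩ : ↥C) ∈ Cfsg.pPrimeCore 2 ↥C := (QuotientGroup.eq_one_iff _).mp h1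
      have hcop : (Nat.card (Cfsg.pPrimeCore 2 ↥C)).Coprime 2 := Cfsg.Agent.Lib.Helper1.pPrimeCore_coprime 2
      have hdvd : orderOf (⟨_, haO⟩ : ↥(Cfsg.pPrimeCore 2 ↥C)) ∣ Nat.card (Cfsg.pPrimeCore 2 ↥C) :=
        orderOf_dvd_natCard _
      have hord : orderOf (⟨_, haO⟩ : ↥(Cfsg.pPrimeCore 2 ↥C)) = 2 := by
        rw [Subgroup.orderOf_mk, Subgroup.orderOf_mk, ha]
      rw [hord] at hdvd
      have := Nat.Coprime.eq_one_of_dvd hcop.symm hdvd
      omega
    · exact h
  have hP : Cfsg.IsPComponent 2 (A.subgroupOf C) := Cfsg.Agent.Lib.Helper9.comp_isPComponent hJ hJb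
  have hle : A.subgroupOf C ≤ Cfsg.pLayer 2 ↥C := le_sSup hP
  have hmap : (A.subgroupOf C).map C.subtype = A := by
    rw [Subgroup.subgroupOf_map_subtype]
    exact inf_eq_left.mpr hAC
  calc A = (A.subgroupOf C).map C.subtype := hmap.symm
    _ ≤ (Cfsg.pLayer 2 ↥C).map C.subtype := Subgroup.map_mono hle
    _ ≤ Cfsg.pLayer 2 G := hbal

end Cfsg.Agent.Lib.Helper18.SS64
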