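import Mathlib
import Cfsg.Prelude
import Cfsg.Agent.S1272
import Cfsg.Agent.S1276
import Cfsg.Agent.S1278
import Cfsg.Agent.Lib.Helper9.PComp3
import Cfsg.Agent.Lib.Helper9.Layer3
import Cfsg.Agent.Lib.Helper9.SS64C3b

/-! S3164 farm (architect helper18), leaf C3b (HARD): a perfect subgroup `A` of the 2-layer `L_{2'}(G)` that centralises `O(G)` lies
in the layer `E(G)`.
Paper proof. `D := O(G)`, `Ḡ := G ⧸ D`, `E(Ḡ) = image of L_{2'}(G)` (S1272), so `Ā ≤ E(Ḡ)`; the components of `Ḡ` are the images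
`L̄` of the 2-components `L` of `G`, and `L` is determined by `L̄` (`Helper9.pcomp_eq_of_map_eq`), so `A` normalises every 2-component
`L` (its image normalises `L̄` as `Ā ≤ E(Ḡ)`, `Helper9.layer_le_normalizer_comp`). For a 2-component `L`: `O(L) = L ⊓ D`
(`Helper9.map_pPrimeCore_subnormal`) is centralised by `A`, so by the three subgroups lemma `[L, A]` centralises `O(L)`, i.e.
`[L, A] ≤ N := L ⊓ C(L ⊓ D)`, a normal subgroup of `L`; by `Helper9.pcomp_subnormal_image` either `N = L`, and then `L` is quasisimple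
(`Helper9.pcomp_qs_iff`), hence a component of `G`, or the image of `N` is central in `L̄`, and then `[L̄, Ā]` is central in `L̄`, so
`[L̄, Ā] = 1` (`Ā` perfect, three subgroups). Let `E_I` be the join of the quasisimple 2-components (`≤ E(G)`, normal in `G`).
`Ā` centralises the other components of `Ḡ`, so `Ā ≤ Ē_I Z(E(Ḡ))` and, being perfect, `Ā ≤ Ē_I`, i.e. `A ≤ E_I D`. In
`E_I D ⧸ E_I` the image of `A` lies in the image of `D` and centralises it, so it is abelian and perfect, hence trivial: `A ≤ E_I ≤ E(G)`.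
Any other correct proof is welcome. -/

set_option autoImplicit false

namespace Cfsg.Agent.Lib.Helper18.SS64

theorem le_layer_of_le_pLayer {G : Type*} [Group G] [Finite G] (A : Subgroup G) (hperf : ⁅A, A⁆ = A)
    (hA2 : A ≤ Cfsg.pLayer 2 G) (hD : ⁅A, Cfsg.oddCore G⁆ = ⊥) : A ≤ Cfsg.layer G := by
  exact Cfsg.Agent.Lib.Helper9.SS64C3b.le_layer_of_le_pLayer' A hperf hA2 hD

end Cfsg.Agent.Lib.Helper18.SS64
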