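import Mathlib
import Cfsg.Prelude
import Cfsg.Agent.Lib.Helper9.Layer3

/-! S3164 farm (architect helper18), leaf C4: if the perfect subgroup `A` lies in `E(G)` then `X := normalClosure A` satisfies `E(X) = X`.
Paper proof. `X ⊴ G`, `X ≤ E(G)` (`Helper9.layer_characteristic`), `X` is perfect (generated by conjugates of `A`). For a component `L`
of `G`: `L ≤ X` or `[L, X] = 1` (`Helper9.comp_le_or_commutator_eq_bot`). `E₁ :=` join of the components `≤ X`, `E₂ :=` join of the
others; they commute elementwise (`Helper9.comp_commutator_eq_bot_of_ne`), `E(G) = E₁ E₂`, `X = E₁ (X ⊓ E₂)` and `X ⊓ E₂` is central in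
`E(G)`; `X = [X, X] ≤ [E₁ Z, E₁ Z] ≤ E₁ ≤ X`. The components of `G` inside `X` are components of `↥X`
(`Helper9.isComponent_subgroupOf`) and generate `X`, so `layer ↥X = ⊤`. -/

set_option autoImplicit false

namespace Cfsg.Agent.Lib.Helper18.SS64

open Cfsg.Agent.Lib.Helper9 in
theorem layer_normalClosure_eq_top {G : Type*} [Group G] [Finite G] (A : Subgroup G) (hperf : ⁅A, A⁆ = A)
    (hAE : A ≤ Cfsg.layer G) : Cfsg.layer ↥(Subgroup.normalClosure (A : Set G)) = ⊤ := by
  set X : Subgroup G := Subgroup.normalClosure (A : Set G) with hX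
  have hXn : X.Normal := Subgroup.normalClosure_normal
  have hAX : A ≤ X := Subgroup.le_normalClosure
  have hXE : X ≤ Cfsg.layer G := Subgroup.normalClosure_le_normal hAE
  -- `X` is perfect
  have hXperf : ⁅X, X⁆ = X := by
    apply le_antisymm (Subgroup.commutator_le_left _ _)
    have hn : (⁅X, X⁆ : Subgroup G).Normal := Subgroup.commutator_normal X X
    have hA' : A ≤ ⁅X, X⁆ := by
      calc A = ⁅A, A⁆ := hperf.symm
        _ ≤ ⁅X, X⁆ := Subgroup.commutator_mono hAX hAX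
    exact Subgroup.normalClosure_le_normal hA'
  -- the two families of components
  set E₁ : Subgroup G := sSup {L : Subgroup G | Cfsg.IsComponent L ∧ L ≤ X} with hE₁
  set E₂ : Subgroup G := sSup {L : Subgroup G | Cfsg.IsComponent L ∧ ¬ L ≤ X} with hE₂
  have hE₁X : E₁ ≤ X := sSup_le (fun L hL => hL.2)
  have hE₂X : E₂ ≤ Subgroup.centralizer (X : Set G) := by
    apply sSup_le
    intro L hL
    rcases comp_le_or_commutator_eq_bot hL.1 hXn.isSubnormal with h | h
    · exact absurd h hL.2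
    · exact Subgroup.commutator_eq_bot_iff_le_centralizer.mp h
  have hE : Cfsg.layer G ≤ E₁ ⊔ E₂ := by
    apply sSup_le
    intro L hL
    by_cases hLX : L ≤ X
    · exact le_trans (le_sSup (show L ∈ {L : Subgroup G | Cfsg.IsComponent L ∧ L ≤ X} from ⟨hL, hLX⟩)) le_sup_left
    · exact le_trans (le_sSup (show L ∈ {L : Subgroup G | Cfsg.IsComponent L ∧ ¬ L ≤ X} from ⟨hL, hLX⟩)) le_sup_right
  have hcomm12 : ∀ a ∈ E₁, ∀ b ∈ E₂, a * b = b * a := by
    intro a ha b hb
    exact (Subgroup.mem_centralizer_iff.mp (hE₂X hb) a (hE₁X ha))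
  -- decomposition of elements of `X`
  have hdec : ∀ x ∈ X, ∃ e ∈ E₁, ∃ z ∈ E₂, e * z = x ∧ ∀ w ∈ X, w * z = z * w := by
    intro x hx
    obtain ⟨e, he, z, hz, hez⟩ := (mem_sup_of_commute hcomm12).mp (hE (hXE hx))
    exact ⟨e, he, z, hz, hez, fun w hw => Subgroup.mem_centralizer_iff.mp (hE₂X hz) w hw⟩
  -- `X ≤ E₁`
  have hXE₁ : X ≤ E₁ := by
    have hcomm : ⁅X, X⁆ ≤ E₁ := by
      rw [Subgroup.commutator_le]
      intro x hx x' hx'
      obtain ⟨e, he, z, hz, rfl, hzc⟩ := hdec x hx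
      obtain ⟨e', he', z', hz', rfl, hzc'⟩ := hdec x' hx'
      have heX : e ∈ X := hE₁X he
      have he'X : e' ∈ X := hE₁X he'
      have hzX : z ∈ X := by
        have : z = e⁻¹ * (e * z) := by group
        rw [this]; exact X.mul_mem (X.inv_mem heX) hx
      have hz'X : z' ∈ X := by
        have : z' = e'⁻¹ * (e' * z') := by group
        rw [this]; exact X.mul_mem (X.inv_mem he'X) hx'
      have h1 : (e' * z') * z = z * (e' * z') := hzc _ hx'
      have h2 : e⁻¹ * z' = z' * e⁻¹ := hzc' _ (X.inv_mem heX)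
      have key : e * z * (e' * z') * (e * z)⁻¹ * (e' * z')⁻¹ = e * e' * e⁻¹ * e'⁻¹ := by
        calc e * z * (e' * z') * (e * z)⁻¹ * (e' * z')⁻¹
            = e * (z * (e' * z')) * z⁻¹ * e⁻¹ * z'⁻¹ * e'⁻¹ := by group
          _ = e * ((e' * z') * z) * z⁻¹ * e⁻¹ * z'⁻¹ * e'⁻¹ := by rw [h1]
          _ = e * e' * (z' * e⁻¹) * z'⁻¹ * e'⁻¹ := by group
          _ = e * e' * (e⁻¹ * z') * z'⁻¹ * e'⁻¹ := by rw [h2]
          _ = e * e' * e⁻¹ * e'⁻¹ := by group
      show e * z * (e' * z') * (e * z)⁻¹ * (e' * z')⁻¹ ∈ E₁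
      rw [key]
      exact E₁.mul_mem (E₁.mul_mem (E₁.mul_mem he he') (E₁.inv_mem he)) (E₁.inv_mem he')
    rw [hXperf] at hcomm
    exact hcomm
  -- conclusion
  rw [eq_top_iff]
  intro x _
  have hx1 : (x : G) ∈ E₁ := hXE₁ x.2
  have hle : E₁ ≤ (Cfsg.layer ↥X).map X.subtype := by
    apply sSup_le
    intro L hL
    have hc : Cfsg.IsComponent (L.subgroupOf X) := isComponent_subgroupOf hL.1 hL.2
    have h1 : L.subgroupOf X ≤ Cfsg.layer ↥X := comp_le_layer hc
    calc L = (L.subgroupOf X).map X.subtype := (Subgroup.map_subgroupOf_eq_of_le hL.2).symm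
      _ ≤ (Cfsg.layer ↥X).map X.subtype := Subgroup.map_mono h1
  have hx2 := hle hx1
  exact (Subgroup.mem_map_iff_mem X.subtype_injective).mp hx2

end Cfsg.Agent.Lib.Helper18.SS64
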