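import Mathlib
import Cfsg.Prelude
import Cfsg.Agent.Lib.Helper18.SS53.L3

/-! S3164 farm (architect helper18), leaf C5: `|Z(X)|` is odd for `X := normalClosure A`.
Paper proof. Otherwise there is an involution `z` in `Z̃ := (center ↥X).map X.subtype`, which is characteristic in the normal subgroup
`X`, so normal in `G`, and centralises `A ≤ X`: `Z̃ ≤ K := C(A)`. For every `g`: `z ∈ K` and `g z g⁻¹ ∈ Z̃ ≤ K`, so
`g ∈ N(K) = N(A)` by tight embedding (`SS53.mem_normalizer_of_tight`). So `A` is normal in `G`, hence so is `K`, and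
`r t r⁻¹ ∈ K`; then `a = (r t r⁻¹) t⁻¹ ∈ K`, contradicting `hnc`. -/

set_option autoImplicit false

namespace Cfsg.Agent.Lib.Helper18.SS64

theorem center_odd {G : Type*} [Group G] [Finite G] (A : Subgroup G) (hA : Cfsg.IsStandardSubgroup A)
    (t : G) (ht : orderOf t = 2) (htA : t ∈ Subgroup.centralizer (A : Set G))
    (r a : G) (hnc : a ∉ Subgroup.centralizer (A : Set G)) (hr : r * t * r⁻¹ = a * t) :
    Odd (Nat.card ↥(Subgroup.center ↥(Subgroup.normalClosure (A : Set G)))) := by
  rw [← Nat.not_even_iff_odd]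
  intro heven
  set X := Subgroup.normalClosure (A : Set G) with hX
  set K := Subgroup.centralizer (A : Set G) with hK
  have hAX : A ≤ X := Subgroup.le_normalClosure
  have hXn : X.Normal := Subgroup.normalClosure_normal
  have : Fact (Nat.Prime 2) := ⟨Nat.prime_two⟩
  obtain ⟨z', hz'⟩ : ∃ z' : ↥(Subgroup.center ↥X), orderOf z' = 2 :=
    exists_prime_orderOf_dvd_card' 2 (even_iff_two_dvd.mp heven)
  -- z as element of G
  set z : G := ((z' : ↥X) : G) with hz
  have hzord : orderOf z = 2 := by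
    rw [hz, Subgroup.orderOf_coe, Subgroup.orderOf_coe]; exact hz'
  have hzX : z ∈ X := (z' : ↥X).2
  have hzc : ∀ x ∈ X, x * z = z * x := by
    intro x hx
    have h1 := Subgroup.mem_center_iff.mp z'.2 ⟨x, hx⟩
    exact congrArg Subtype.val h1
  have hzK : z ∈ K := by
    rw [hK, Subgroup.mem_centralizer_iff]
    intro x hx
    exact hzc x (hAX hx)
  have hconjK : ∀ g : G, g * z * g⁻¹ ∈ K := by
    intro g
    rw [hK, Subgroup.mem_centralizer_iff]
    intro x hx
    have hx' : g⁻¹ * x * g ∈ X := by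
      have := hXn.conj_mem x (hAX hx) g⁻¹
      simpa using this
    have h1 := hzc _ hx'
    calc x * (g * z * g⁻¹) = g * ((g⁻¹ * x * g) * z) * g⁻¹ := by group
      _ = g * (z * (g⁻¹ * x * g)) * g⁻¹ := by rw [h1]
      _ = g * z * g⁻¹ * x := by group
  have hnorm : ∀ g : G, g ∈ Subgroup.normalizer (K : Set G) := by
    intro g
    exact Cfsg.Agent.Lib.Helper18.SS53.mem_normalizer_of_tight K hA.2.1 g z hzord hzK (hconjK g)
  have hrt : r * t * r⁻¹ ∈ K := (Subgroup.mem_normalizer_iff.mp (hnorm r) t).mp htA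
  apply hnc
  have : a = r * t * r⁻¹ * t⁻¹ := by rw [hr]; group
  rw [this]
  exact K.mul_mem hrt (K.inv_mem htA)

end Cfsg.Agent.Lib.Helper18.SS64
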