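import Mathlib
import Cfsg.Prelude
import Cfsg.Agent.Lib.Helper9.Layer
import Cfsg.Agent.Lib.Helper18.SS53.L3
import Cfsg.Agent.Lib.Helper18.SS64.C1
import Cfsg.Agent.Lib.Helper18.SS64.C2
import Cfsg.Agent.Lib.Helper18.SS64.C3a
import Cfsg.Agent.Lib.Helper18.SS64.C3b
import Cfsg.Agent.Lib.Helper18.SS64.C4
import Cfsg.Agent.Lib.Helper18.SS64.C5

/-! S3164 farm (architect helper18): assembly. -/

set_option autoImplicit false

namespace Cfsg.Agent.Lib.Helper18.SS64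

theorem main {G : Type*} [Group G] [Finite G] (A : Subgroup G) (hA : Cfsg.IsStandardSubgroup A)
    (hcyc : ∀ R : Sylow 2 ↥(Subgroup.centralizer (A : Set G)), IsCyclic ↥(R : Subgroup ↥(Subgroup.centralizer (A : Set G))))
    (t : G) (ht : orderOf t = 2) (htA : t ∈ Subgroup.centralizer (A : Set G))
    (R : Subgroup G) (hc1 : ⁅R, Subgroup.zpowers t⁆ ≠ ⊥) (hc2 : ⁅R, Subgroup.zpowers t⁆ ≤ A) :
    Cfsg.layer ↥(Subgroup.normalClosure (A : Set G)) = ⊤ ∧
      Odd (Nat.card ↥(Subgroup.center ↥(Subgroup.normalClosure (A : Set G)))) := by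
  obtain ⟨r, a, haA, ha, hnc, hr⟩ := exists_invol A hcyc t ht htA R hc1 hc2
  have hD : ⁅A, Cfsg.oddCore G⁆ = ⊥ := comm_core_eq_bot A hA t ht htA r a haA ha hnc hr
  have hCN : Subgroup.centralizer ({t} : Set G) ≤ Subgroup.normalizer (A : Set G) := by
    rw [hA.2.2.2]
    exact Cfsg.Agent.Lib.Helper18.SS53.centralizer_le_normalizer_of_tight _ hA.2.1 t ht htA
  have hperf : ⁅A, A⁆ = A := by
    rw [← Subgroup.map_subtype_commutator, Cfsg.Agent.Lib.Helper9.qs_commutator_eq_top hA.1,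
      ← MonoidHom.range_eq_map, Subgroup.range_subtype]
  have hA2 : A ≤ Cfsg.pLayer 2 G := le_pLayer A hA.1 t ht htA hCN a haA ha
  have hAE : A ≤ Cfsg.layer G := le_layer_of_le_pLayer A hperf hA2 hD
  exact ⟨layer_normalClosure_eq_top A hperf hAE, center_odd A hA t ht htA r a hnc hr⟩

end Cfsg.Agent.Lib.Helper18.SS64
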